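import Mathlib

/-!
# S4327, the Lyons group: tools (helper4)

* `exists_rho` : permutations of type `3`, `3 3`, `3 3 3` of eleven points have two conjugates under `A₁₁` with a product of even order;
* `key35` : a group of order dividing `|G₂(5)|` generated by elements of order 5 is a 5-group or has order divisible by 2, 7 or 31.
-/

set_option autoImplicit false
set_option maxRecDepth 100000

namespace Cfsg.Agent.H4.Gen.LyTools

open Subgroup Equiv

/-! ### permutations -/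

def r1 : Perm (Fin 11) := swap 0 1 * swap 1 2
def r2 : Perm (Fin 11) := swap 0 1 * swap 1 2 * (swap 4 5 * swap 5 6)
def r3 : Perm (Fin 11) := swap 0 1 * swap 1 2 * (swap 4 5 * swap 5 6) * (swap 7 8 * swap 8 9)
def q1 : Perm (Fin 11) := swap 0 1 * swap 1 2 * swap 2 3 * swap 7 8
def q3 : Perm (Fin 11) := swap 0 1 * swap 1 2 * swap 2 3 * (swap 4 7 * swap 5 8 * swap 6 9)

theorem type1 : r1.cycleType = {3} := by decide +kernel
theorem type2 : r2.cycleType = {3, 3} := by decide +kernel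
theorem type3 : r3.cycleType = {3, 3, 3} := by decide +kernel

theorem even1 : q1 ∈ alternatingGroup (Fin 11) := by rw [Perm.mem_alternatingGroup]; decide +kernel
theorem even3 : q3 ∈ alternatingGroup (Fin 11) := by rw [Perm.mem_alternatingGroup]; decide +kernel

theorem two_dvd_of {M : Type*} [Group M] {g : M} (h6 : g ^ 6 = 1) (h3 : g ^ 3 ≠ 1) : 2 ∣ orderOf g := by
  by_contra h
  apply h3
  rw [← orderOf_dvd_iff_pow_eq_one]
  have h1 : orderOf g ∣ 2 * 3 := orderOf_dvd_of_pow_eq_one h6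
  exact Nat.Coprime.dvd_of_dvd_mul_left (Nat.Coprime.symm ((Nat.prime_two.coprime_iff_not_dvd).2 h)) h1

theorem p1 : (r1 * (q1 * r1 * q1⁻¹)) ^ 6 = 1 ∧ (r1 * (q1 * r1 * q1⁻¹)) ^ 3 ≠ 1 := by decide +kernel
theorem p2 : (r2 * (q1 * r2 * q1⁻¹)) ^ 6 = 1 ∧ (r2 * (q1 * r2 * q1⁻¹)) ^ 3 ≠ 1 := by decide +kernel
theorem p3 : (r3 * (q3 * r3 * q3⁻¹)) ^ 6 = 1 ∧ (r3 * (q3 * r3 * q3⁻¹)) ^ 3 ≠ 1 := by decide +kernel

theorem conj_case {σ r q : Perm (Fin 11)} (h : r.cycleType = σ.cycleType) (hq : q ∈ alternatingGroup (Fin 11))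
    (hp : (r * (q * r * q⁻¹)) ^ 6 = 1 ∧ (r * (q * r * q⁻¹)) ^ 3 ≠ 1) :
    ∃ ρ ∈ alternatingGroup (Fin 11), 2 ∣ orderOf (σ * (ρ * σ * ρ⁻¹)) := by
  obtain ⟨τ, hτ⟩ := isConj_iff.1 (Perm.isConj_iff_cycleType_eq.2 h)
  refine ⟨τ * q * τ⁻¹, (inferInstance : (alternatingGroup (Fin 11)).Normal).conj_mem q hq τ, ?_⟩
  have h1 : σ * (τ * q * τ⁻¹ * σ * (τ * q * τ⁻¹)⁻¹) = τ * (r * (q * r * q⁻¹)) * τ⁻¹ := by
    rw [← hτ]
    group
  have h2 : orderOf (τ * (r * (q * r * q⁻¹)) * τ⁻¹) = orderOf (r * (q * r * q⁻¹)) := by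
    have h3 : τ * (r * (q * r * q⁻¹)) * τ⁻¹ = MulAut.conj τ (r * (q * r * q⁻¹)) := rfl
    rw [h3]
    exact MulEquiv.orderOf_eq _ _
  rw [h1, h2]
  exact two_dvd_of hp.1 hp.2

/-- **even products of two conjugates** -/
theorem exists_rho {σ : Perm (Fin 11)} (h : σ.cycleType = {3} ∨ σ.cycleType = {3, 3} ∨ σ.cycleType = {3, 3, 3}) :
    ∃ ρ ∈ alternatingGroup (Fin 11), 2 ∣ orderOf (σ * (ρ * σ * ρ⁻¹)) := by
  rcases h with h | h | h
  · exact conj_case (by rw [h, type1]) even1 p1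
  · exact conj_case (by rw [h, type2]) even1 p2
  · exact conj_case (by rw [h, type3]) even3 p3

/-! ### groups generated by elements of order five -/

theorem key35 {K : Type*} [Group K] [Finite K] (hK : Nat.card K ∣ 5859000000) {S : Set K} (hS : ∀ s ∈ S, s ^ 5 = 1)
    (hgen : closure S = ⊤) (hno : ¬ IsPGroup 5 K) : 2 ∣ Nat.card K ∨ 7 ∣ Nat.card K ∨ 31 ∣ Nat.card K := by
  classical
  by_contra hcon
  rw [not_or, not_or] at hcon
  obtain ⟨h2, h7, h31⟩ := hcon
  have : Fact (Nat.Prime 5) := ⟨Nat.prime_five⟩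
  have hc : Nat.Coprime (Nat.card K) (2 ^ 6 * (7 * 31)) := by
    refine Nat.Coprime.mul_right (Nat.Coprime.pow_right _ ?_) (Nat.Coprime.mul_right ?_ ?_)
    · exact ((Nat.prime_two.coprime_iff_not_dvd).2 h2).symm
    · exact (((by norm_num : Nat.Prime 7).coprime_iff_not_dvd).2 h7).symm
    · exact (((by norm_num : Nat.Prime 31).coprime_iff_not_dvd).2 h31).symm
  have hd : Nat.card K ∣ 27 * 15625 := by
    refine hc.dvd_of_dvd_mul_left ?_
    rw [show 2 ^ 6 * (7 * 31) * (27 * 15625) = 5859000000 by norm_num]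
    exact hK
  let P : Sylow 5 K := default
  have h27 : Nat.card (Sylow 5 K) ∣ 27 := by
    have h3 : Nat.card (Sylow 5 K) ∣ (P : Subgroup K).index := P.card_dvd_index
    refine h3.trans ?_
    have h4 : (P : Subgroup K).index ∣ 27 * 15625 := (Subgroup.index_dvd_card _).trans hd
    refine Nat.Coprime.dvd_of_dvd_mul_right ?_ h4
    rw [show 15625 = 5 ^ 6 by norm_num]
    exact Nat.Coprime.pow_right _ ((Nat.prime_five.coprime_iff_not_dvd).2 P.not_dvd_index).symm
  have hmod : Nat.card (Sylow 5 K) ≡ 1 [MOD 5] := card_sylow_modEq_one 5 K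
  have hone : Nat.card (Sylow 5 K) = 1 := by
    have h5 : Nat.card (Sylow 5 K) ∈ Nat.divisors 27 := Nat.mem_divisors.2 ⟨h27, by norm_num⟩
    rw [show Nat.divisors 27 = {1, 3, 9, 27} by decide +kernel] at h5
    simp only [Finset.mem_insert, Finset.mem_singleton] at h5
    rcases h5 with h5 | h5 | h5 | h5 <;> rw [h5] at hmod ⊢ <;> revert hmod <;> decide
  have hsub : Subsingleton (Sylow 5 K) := (Nat.card_eq_one_iff_unique.1 hone).1
  apply hno
  have hle : closure S ≤ (P : Subgroup K) := by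
    rw [closure_le]
    intro s hs
    obtain ⟨Q, hQ⟩ := (IsPGroup.of_card (G := zpowers s) (p := 5) (n := if s = 1 then 0 else 1) (by
      rw [Nat.card_zpowers]
      split_ifs with h1
      · rw [h1, orderOf_one, pow_zero]
      · rw [pow_one]; exact orderOf_eq_prime (hS s hs) h1)).exists_le_sylow
    rw [Subsingleton.elim P Q]
    exact hQ (mem_zpowers s)
  rw [hgen] at hle
  exact P.2.of_equiv ((MulEquiv.subgroupCongr (top_le_iff.1 hle)).trans topEquiv)

end Cfsg.Agent.H4.Gen.LyTools
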