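import Cfsg.Agent.H4.Gen.LyLoc
import Cfsg.Agent.H4.Gen.LyTools
import Cfsg.Agent.CpAutLy.Row
import Cfsg.Agent.McLType.ThreeElts
import Cfsg.Agent.SporRec.LyG2.LyEmb
import Cfsg.Agent.S2076

/-!
# S4327 (Guralnick-Saxl), the row of the Lyons group (helper4)

* `gen3` : an element of order 3 commutes with an involution `t` and two of its conjugates in `C(t) = 2.A₁₁` generate a group of
  even order;
* `gen5` : an element of order 5 is in `G₂(5)` up to conjugacy, two of its conjugates in `G₂(5)` generate a group which is not a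
  5-group (Baer-Suzuki), hence of order divisible by 2, 7 or 31;
* `gen_Ly` : eleven conjugates of any automorphism of prime order generate.
-/

set_option autoImplicit false

namespace Cfsg.Agent.H4.Gen.Ly

open Subgroup Equiv Cfsg Cfsg.Agent.H147.Gen Cfsg.Agent.H867.Gen.Baer Cfsg.Agent.H4.Gen.LyLoc Cfsg.Agent.H4.Gen.LyTools
open Cfsg.Agent.H940.Eng Cfsg.Agent.SporRec.LyType

universe u

/-! ### order three -/

/-- an involution commuting with `y` modulo a centre of order three -/
theorem exists_lift {M : Type*} [Group M] [Finite M] (hz : Nat.card (center M) = 3) {y : M}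
    {s : M ⧸ center M} (hs : orderOf s = 2) (hsy : s * (QuotientGroup.mk y : M ⧸ center M) = QuotientGroup.mk y * s) :
    ∃ u : M, orderOf u = 2 ∧ u * y = y * u := by
  have : Fact (Nat.Prime 2) := ⟨Nat.prime_two⟩
  obtain ⟨v, rfl⟩ := QuotientGroup.mk_surjective s
  have hz3 : ∀ z ∈ center M, z ^ 3 = 1 := by
    intro z hz'
    have h1 := pow_card_eq_one' (x := (⟨z, hz'⟩ : center M))
    rw [hz] at h1
    exact congrArg Subtype.val h1
  have hv2 : v ^ 2 ∈ center M := by
    rw [← QuotientGroup.eq_one_iff, QuotientGroup.mk_pow, ← hs, pow_orderOf_eq_one]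
  have hmk : (QuotientGroup.mk (v ^ 3) : M ⧸ center M) = QuotientGroup.mk v := by
    rw [QuotientGroup.mk_pow, pow_succ, ← hs, pow_orderOf_eq_one, one_mul]
  have hu2 : (v ^ 3) ^ 2 = 1 := by
    rw [← pow_mul, mul_comm, pow_mul]
    exact hz3 _ hv2
  have hu1 : v ^ 3 ≠ 1 := by
    intro h
    rw [h, QuotientGroup.mk_one] at hmk
    rw [← hmk, orderOf_one] at hs
    omega
  refine ⟨v ^ 3, orderOf_eq_prime hu2 hu1, ?_⟩
  set u := v ^ 3 with hu
  have hc : u * y * u⁻¹ * y⁻¹ ∈ center M := by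
    rw [← QuotientGroup.eq_one_iff]
    change (QuotientGroup.mk u * QuotientGroup.mk y * (QuotientGroup.mk u)⁻¹ * (QuotientGroup.mk y)⁻¹ : M ⧸ center M) = 1
    rw [hmk, hsy, mul_inv_cancel_right, mul_inv_cancel]
  set z := u * y * u⁻¹ * y⁻¹ with hzd
  have hzc : ∀ g : M, g * z = z * g := fun g => Subgroup.mem_center_iff.1 hc g
  have hui : u * u = 1 := by rw [← pow_two]; exact hu2
  have huinv : u⁻¹ = u := inv_eq_of_mul_eq_one_left hui
  have h1 : u * y * u⁻¹ = z * y := by rw [hzd]; group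
  have h2 : y = z * z * y := by
    calc y = u * (u * y * u⁻¹) * u⁻¹ := by
            have : u * (u * y * u⁻¹) * u⁻¹ = (u * u) * y * (u * u)⁻¹ := by group
            rw [this, hui, one_mul, inv_one, mul_one]
      _ = u * (z * y) * u⁻¹ := by rw [h1]
      _ = z * (u * y * u⁻¹) := by rw [← mul_assoc u z y, hzc u]; group
      _ = z * z * y := by rw [h1]; group
  have h3 : z * z = 1 := by
    have := mul_right_cancel (b := y) (a := 1) (c := z * z) (by rw [one_mul]; exact h2)
    exact this.symm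
  have h4 : z = 1 := by
    have h5 := hz3 z hc
    rw [pow_succ, pow_two, h3, one_mul] at h5
    exact h5
  rw [h4, one_mul] at h1
  calc u * y = u * y * u⁻¹ * u := by group
    _ = y * u := by rw [h1]

open Cfsg.Agent.CpAutLy.Base in
theorem card_three {x₀ : Spor.Ly} (h₀ : Three x₀) : Nat.card (centralizer ({x₀} : Set Spor.Ly)) = 2694384000 := by
  obtain ⟨-, -, hcard, -⟩ := TypeM.FactsMcL.facts h₀.quot
  rw [card_eq_card_quotient_mul_card_subgroup (center ↥(centralizer ({x₀} : Set Spor.Ly))), hcard, h₀.zcard]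

open Cfsg.Agent.CpAutLy.Base in
theorem exists_inv_aux {x₀ y : Spor.Ly} (h₀ : Three x₀) (hy : orderOf y = 3) (hyx : y * x₀ = x₀ * y) :
    ∃ u : Spor.Ly, orderOf u = 2 ∧ u * y = y * u := by
  have hfin : Finite Spor.Ly := Cfsg.Agent.Ly.Setup.finite_ly
  have : Fact (Nat.Prime 2) := ⟨Nat.prime_two⟩
  let y' : centralizer ({x₀} : Set Spor.Ly) := ⟨y, Subgroup.mem_centralizer_singleton_iff.2 hyx⟩
  by_cases hc : y' ∈ center ↥(centralizer ({x₀} : Set Spor.Ly))
  · obtain ⟨u, hu⟩ := exists_prime_orderOf_dvd_card' (G := centralizer ({x₀} : Set Spor.Ly)) 2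
      (by rw [card_three h₀]; norm_num)
    exact ⟨u, by rw [Subgroup.orderOf_coe, hu], congrArg Subtype.val (Subgroup.mem_center_iff.1 hc u)⟩
  · have h3 : orderOf (QuotientGroup.mk y' : ↥(centralizer ({x₀} : Set Spor.Ly)) ⧸
        center ↥(centralizer ({x₀} : Set Spor.Ly))) = 3 :=
      Cfsg.Agent.CpAutLy.Row.orderOf_mk Nat.prime_three (by rw [Subgroup.orderOf_mk, hy]) hc
    obtain ⟨s, hs, hsy⟩ := Cfsg.Agent.McLType.ThreeElts.exists_commuting_involution_of_iso h₀.quot _ h3
    obtain ⟨u, hu, huy⟩ := exists_lift h₀.zcard hs hsy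
    exact ⟨u, by rw [Subgroup.orderOf_coe]; exact hu, congrArg Subtype.val huy⟩

/-- elements of order three commute with an involution -/
theorem exists_inv {y : Spor.Ly} (hy : orderOf y = 3) : ∃ u : Spor.Ly, orderOf u = 2 ∧ u * y = y * u := by
  have hfin : Finite Spor.Ly := Cfsg.Agent.Ly.Setup.finite_ly
  have : Fact (Nat.Prime 3) := ⟨Nat.prime_three⟩
  obtain ⟨x₀, h₀⟩ := Cfsg.Agent.CpAutLy.Base.exists_three
  obtain ⟨T, hT⟩ := Sylow.exists_subgroup_card_pow_prime (G := centralizer ({x₀} : Set Spor.Ly)) 3 (n := 7)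
    (by rw [card_three h₀]; norm_num)
  set T' : Subgroup Spor.Ly := T.map (centralizer ({x₀} : Set Spor.Ly)).subtype with hT'
  have hcard : Nat.card T' = 3 ^ 7 := by
    rw [hT', card_map_of_injective (subtype_injective _), hT]
  have hfac : (Nat.card Spor.Ly).factorization 3 = 7 := by
    rw [Cfsg.Agent.Ly.Setup.card_ly]
    apply le_antisymm
    · by_contra h
      rw [not_le] at h
      have h1 := (Nat.prime_three.pow_dvd_iff_le_factorization (by norm_num)).2 h
      norm_num at h1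
    · exact (Nat.prime_three.pow_dvd_iff_le_factorization (by norm_num)).1 (by norm_num)
  let R : Sylow 3 Spor.Ly := Sylow.ofCard T' (by rw [hcard, hfac])
  have hR : (R : Subgroup Spor.Ly) = T' := rfl
  obtain ⟨Q, hQ⟩ := (IsPGroup.of_card (G := zpowers y) (p := 3) (n := 1)
    (by rw [Nat.card_zpowers, hy]; norm_num)).exists_le_sylow
  obtain ⟨g, hg⟩ := MulAction.exists_smul_eq Spor.Ly Q R
  have h1 : g * y * g⁻¹ ∈ (R : Subgroup Spor.Ly) := by
    rw [← hg, Sylow.smul_def, Sylow.pointwise_smul_def]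
    exact Subgroup.smul_mem_pointwise_smul y (MulAut.conj g) _ (hQ (mem_zpowers y))
  rw [hR] at h1
  have h2 : g * y * g⁻¹ ∈ centralizer ({x₀} : Set Spor.Ly) := map_subtype_le T h1
  have ho : orderOf (g * y * g⁻¹) = 3 := by
    rw [← hy]
    exact orderOf_injective (MulAut.conj g).toMonoidHom (MulAut.conj g).injective y
  obtain ⟨u, hu, huy⟩ := exists_inv_aux h₀ ho (Subgroup.mem_centralizer_singleton_iff.1 h2)
  refine ⟨g⁻¹ * u * g, ?_, ?_⟩
  · have h3 := orderOf_injective (MulAut.conj g⁻¹).toMonoidHom (MulAut.conj g⁻¹).injective u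
    rw [hu] at h3
    have h4 : (MulAut.conj g⁻¹).toMonoidHom u = g⁻¹ * u * g := by
      show g⁻¹ * u * g⁻¹⁻¹ = _
      rw [inv_inv]
    rwa [h4] at h3
  · calc g⁻¹ * u * g * y = g⁻¹ * (u * (g * y * g⁻¹)) * g := by group
      _ = g⁻¹ * (g * y * g⁻¹ * u) * g := by rw [huy]
      _ = y * (g⁻¹ * u * g) := by group

/-- **elements of order three** -/
theorem gen3 (B : Base) : GenI Spor.Ly 10 3 := by
  have hfin : Finite Spor.Ly := Cfsg.Agent.Ly.Setup.finite_ly
  have hs : IsSimpleGroup Spor.Ly := Cfsg.Agent.Ly.Setup.isSimple_ly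
  intro y hy
  obtain ⟨L, -⟩ := exists_lyType (G := Spor.Ly) Cfsg.Agent.R10.Close.τ Cfsg.Agent.R10.Close.order_τ
    Cfsg.Agent.R10.Close.cover_τ.2
  obtain ⟨u, hu, huy⟩ := exists_inv hy
  obtain ⟨g, hg⟩ := L.one u (by rw [← pow_two, ← hu, pow_orderOf_eq_one]) (by
    rintro rfl
    rw [orderOf_one] at hu
    omega)
  -- the conjugate commuting with `t`
  have hx : (g⁻¹ * y * g) ∈ centralizer ({L.t} : Set Spor.Ly) := by
    rw [mem_centralizer_singleton_iff]
    rw [← hg] at huy
    calc g⁻¹ * y * g * L.t = g⁻¹ * (y * (g * L.t * g⁻¹)) * g := by group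
      _ = g⁻¹ * (g * L.t * g⁻¹ * y) * g := by rw [huy]
      _ = L.t * (g⁻¹ * y * g) := by group
  have h3 : (g⁻¹ * y * g) ^ 3 = 1 := by
    have h4 : (g⁻¹ * y * g) = g⁻¹ * y * g⁻¹⁻¹ := by rw [inv_inv]
    rw [h4, conj_pow, ← hy, pow_orderOf_eq_one, mul_one, mul_inv_cancel]
  have h1 : (g⁻¹ * y * g) ≠ 1 := by
    intro h
    have h4 : y = 1 := by
      calc y = g * (g⁻¹ * y * g) * g⁻¹ := by group
        _ = 1 := by rw [h]; group
    rw [h4, orderOf_one] at hy
    omega
  suffices hcg : CG 10 (g⁻¹ * y * g) by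
    have h5 := hcg.conj g
    have h6 : g * (g⁻¹ * y * g) * g⁻¹ = y := by group
    rwa [h6] at h5
  set x : centralizer ({L.t} : Set Spor.Ly) := ⟨g⁻¹ * y * g, hx⟩ with hxd
  have hx3 : x ^ 3 = 1 := Subtype.ext h3
  have hx1 : x ≠ 1 := fun h => h1 (congrArg Subtype.val h)
  obtain ⟨ρ, hρ, h2⟩ := exists_rho (Cfsg.Agent.CpAutLy.Cov.three_cases L.K hx3 hx1)
  obtain ⟨v, hv⟩ := L.K.exists_lift hρ
  have hw : 2 ∣ orderOf (x * (v * x * v⁻¹)) := by
    have h6 : L.K.π (x * (v * x * v⁻¹)) = L.K.π x * (ρ * L.K.π x * ρ⁻¹) := by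
      simp only [map_mul, map_inv, hv]
    rw [← h6] at h2
    exact h2.trans (orderOf_map_dvd _ _)
  obtain ⟨m, hm⟩ := hw
  have hpos : 0 < orderOf (x * (v * x * v⁻¹)) := orderOf_pos _
  have hz : orderOf ((x * (v * x * v⁻¹)) ^ m) = 2 := by
    rw [orderOf_pow, hm, Nat.gcd_eq_right (Dvd.intro_left 2 rfl)]
    exact Nat.mul_div_cancel _ (by omega)
  refine CG_of_pair (x := g⁻¹ * y * g) (g := (v : Spor.Ly)) (z := (((x * (v * x * v⁻¹)) ^ m : centralizer ({L.t} : Set Spor.Ly)) : Spor.Ly))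
    (k := 5) ?_ (gen2 B _ (by rw [Subgroup.orderOf_coe, hz])) (by norm_num)
  rw [SubmonoidClass.coe_pow]
  refine pow_mem ?_ m
  show (g⁻¹ * y * g) * ((v : Spor.Ly) * (g⁻¹ * y * g) * (v : Spor.Ly)⁻¹) ∈ _
  exact mul_mem (subset_closure (by simp)) (subset_closure (by simp))

/-! ### order five -/

/-- an element of order five is conjugate to an element of a subgroup of the order of `G₂(5)` -/
theorem exists_conj_mem {M : Type*} [Group M] [Finite M] (hM : Nat.card M = 51765179004000000) (H : Subgroup M)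
    (card_H : Nat.card H = 5859000000) {y : M} (hy : orderOf y = 5) : ∃ g : M, g * y * g⁻¹ ∈ H := by
  have : Fact (Nat.Prime 5) := ⟨Nat.prime_five⟩
  obtain ⟨T, hT⟩ := Sylow.exists_subgroup_card_pow_prime (G := H) 5 (n := 6) (by rw [card_H]; norm_num)
  have hcard : Nat.card (T.map H.subtype) = 5 ^ 6 := by
    rw [card_map_of_injective (subtype_injective _), hT]
  have hfac : (Nat.card M).factorization 5 = 6 := by
    rw [hM]
    apply le_antisymm
    · by_contra h
      rw [not_le] at h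
      have h1 := (Nat.prime_five.pow_dvd_iff_le_factorization (by norm_num)).2 h
      norm_num at h1
    · exact (Nat.prime_five.pow_dvd_iff_le_factorization (by norm_num)).1 (by norm_num)
  let R : Sylow 5 M := Sylow.ofCard (T.map H.subtype) (by rw [hcard, hfac])
  have hR : (R : Subgroup M) = T.map H.subtype := rfl
  obtain ⟨Q, hQ⟩ := (IsPGroup.of_card (G := zpowers y) (p := 5) (n := 1)
    (by rw [Nat.card_zpowers, hy]; norm_num)).exists_le_sylow
  obtain ⟨g, hg⟩ := MulAction.exists_smul_eq M Q R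
  have h1 : g * y * g⁻¹ ∈ (R : Subgroup M) := by
    rw [← hg, Sylow.smul_def, Sylow.pointwise_smul_def]
    exact Subgroup.smul_mem_pointwise_smul y (MulAut.conj g) _ (hQ (mem_zpowers y))
  rw [hR] at h1
  exact ⟨g, map_subtype_le T h1⟩

/-- Baer-Suzuki -/
theorem exists_not_pgroup {H : Type*} [Group H] [Finite H] (hsH : IsSimpleGroup H) (card_H : Nat.card H = 5859000000)
    {x : H} (hx : orderOf x = 5) : ∃ v : H, ¬ IsPGroup 5 (closure ({x, v * x * v⁻¹} : Set H)) := by
  have : Fact (Nat.Prime 5) := ⟨Nat.prime_five⟩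
  by_contra hno
  push Not at hno
  have hP : IsPGroup 5 (normalClosure {x} : Subgroup H) :=
    Cfsg.Agent.Involutions.BaerSuzuki.baer_suzuki_element x hno
  rcases (inferInstance : (normalClosure {x} : Subgroup H).Normal).eq_bot_or_eq_top with h3 | h3
  · have h4 : x ∈ (normalClosure {x} : Subgroup H) := subset_normalClosure rfl
    rw [h3, mem_bot] at h4
    rw [h4, orderOf_one] at hx
    omega
  · rw [h3] at hP
    obtain ⟨n, hn⟩ := IsPGroup.iff_card.1 hP
    rw [card_top, card_H] at hn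
    have h5 : 2 ∣ 5 ^ n := by
      rw [← hn]
      norm_num
    have h6 : 2 ∣ 5 := Nat.prime_two.dvd_of_dvd_pow h5
    omega

/-- the groups generated by elements of order five -/
theorem key_closure {H : Type*} [Group H] [Finite H] (card_H : Nat.card H = 5859000000) {S : Set H}
    (hS : ∀ s ∈ S, s ^ 5 = 1) (hno : ¬ IsPGroup 5 (closure S)) :
    2 ∣ Nat.card (closure S) ∨ 7 ∣ Nat.card (closure S) ∨ 31 ∣ Nat.card (closure S) :=
  key35 (K := closure S) (card_H ▸ card_subgroup_dvd_card (closure S)) (S := Subtype.val ⁻¹' S)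
    (fun s hs => Subtype.ext (hS s hs)) closure_closure_coe_preimage hno

/-- two conjugates of an element of order five and an element of order 2, 7 or 31 -/
theorem exists_pair_five {H : Type*} [Group H] [Finite H] (hsH : IsSimpleGroup H) (card_H : Nat.card H = 5859000000)
    {x : H} (hx : orderOf x = 5) : ∃ v z : H, z ∈ closure ({x, v * x * v⁻¹} : Set H) ∧
      (orderOf z = 2 ∨ orderOf z = 7 ∨ orderOf z = 31) := by
  obtain ⟨v, hv⟩ := exists_not_pgroup hsH card_H hx
  have hx5 : x ^ 5 = 1 := by rw [← hx, pow_orderOf_eq_one]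
  have hS : ∀ s ∈ ({x, v * x * v⁻¹} : Set H), s ^ 5 = 1 := by
    intro s hs
    rcases hs with rfl | hs
    · exact hx5
    · rw [Set.mem_singleton_iff] at hs
      rw [hs, conj_pow, hx5, mul_one, mul_inv_cancel]
  have h3 := key_closure card_H hS hv
  have key : ∀ q : ℕ, q.Prime → q ∣ Nat.card (closure ({x, v * x * v⁻¹} : Set H)) →
      ∃ z : H, z ∈ closure ({x, v * x * v⁻¹} : Set H) ∧ orderOf z = q := by
    intro q hq hqd
    have := Fact.mk hq
    obtain ⟨z, hz⟩ := exists_prime_orderOf_dvd_card' (G := closure ({x, v * x * v⁻¹} : Set H)) q hqd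
    exact ⟨z, z.2, by rw [Subgroup.orderOf_coe, hz]⟩
  rcases h3 with h3 | h3 | h3
  · obtain ⟨z, h4, h5⟩ := key 2 Nat.prime_two h3
    exact ⟨v, z, h4, Or.inl h5⟩
  · obtain ⟨z, h4, h5⟩ := key 7 (by norm_num) h3
    exact ⟨v, z, h4, Or.inr (Or.inl h5)⟩
  · obtain ⟨z, h4, h5⟩ := key 31 (by norm_num) h3
    exact ⟨v, z, h4, Or.inr (Or.inr h5)⟩

/-- elements of order five from a simple subgroup of the order of `G₂(5)` -/
theorem gen5_aux {M : Type*} [Group M] [Finite M] (hM : Nat.card M = 51765179004000000) (g2 : GenI M 5 2)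
    (g7 : GenI M 5 7) (g31 : GenI M 5 31) (H : Subgroup M) (hsH : IsSimpleGroup H) (card_H : Nat.card H = 5859000000) :
    GenI M 10 5 := by
  intro y hy
  obtain ⟨g, h2⟩ := exists_conj_mem hM H card_H hy
  have ho : orderOf (g * y * g⁻¹) = 5 := by
    rw [← hy]
    exact orderOf_injective (MulAut.conj g).toMonoidHom (MulAut.conj g).injective y
  have hx : orderOf (⟨g * y * g⁻¹, h2⟩ : H) = 5 := by rw [← Subgroup.orderOf_coe]; exact ho
  obtain ⟨v, z, hz, h3⟩ := exists_pair_five hsH card_H hx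
  have hmem : (z : M) ∈ closure ({g * y * g⁻¹, (v : M) * (g * y * g⁻¹) * (v : M)⁻¹} : Set M) := by
    have h4 := mem_map_of_mem H.subtype hz
    rw [MonoidHom.map_closure, Set.image_pair] at h4
    exact h4
  refine CG.of_conj g (CG_of_pair (k := 5) hmem ?_ (by norm_num))
  rcases h3 with h3 | h3 | h3
  · exact g2 _ (by rw [Subgroup.orderOf_coe, h3])
  · exact g7 _ (by rw [Subgroup.orderOf_coe, h3])
  · exact g31 _ (by rw [Subgroup.orderOf_coe, h3])

open Cfsg.Agent.SporRec.LyG2.LyEmb in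
/-- **elements of order five** -/
theorem gen5 (B : Base) : GenI Spor.Ly 10 5 :=
  have : Finite Spor.Ly := Cfsg.Agent.Ly.Setup.finite_ly
  gen5_aux Cfsg.Agent.Ly.Setup.card_ly (gen2 B) ((gen7 B).mono (by norm_num)) ((gen31 B).mono (by norm_num)) H
    isSimpleGroup_H card_H

/-! ### the row -/

theorem genI (B : Base) {p : ℕ} (hp : p.Prime) : GenI Spor.Ly 11 p := by
  have hfin : Finite Spor.Ly := Cfsg.Agent.Ly.Setup.finite_ly
  intro x hx
  have hd : p ∣ 2 ^ 8 * 3 ^ 7 * 5 ^ 6 * 7 * 11 * 31 * 37 * 67 := by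
    have h1 : orderOf x ∣ Nat.card Spor.Ly := orderOf_dvd_natCard x
    rw [hx, Cfsg.Agent.Ly.Setup.card_ly] at h1
    exact h1.trans (by norm_num)
  have h : p = 2 ∨ p = 3 ∨ p = 5 ∨ p = 7 ∨ p = 11 ∨ p = 31 ∨ p = 37 ∨ p = 67 := by
    have e : ∀ q : ℕ, q.Prime → p ∣ q → p = q := fun q hq h => (Nat.prime_dvd_prime_iff_eq hp hq).1 h
    rcases hp.dvd_mul.1 hd with hd | h
    · rcases hp.dvd_mul.1 hd with hd | h
      · rcases hp.dvd_mul.1 hd with hd | h
        · rcases hp.dvd_mul.1 hd with hd | h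
          · rcases hp.dvd_mul.1 hd with hd | h
            · rcases hp.dvd_mul.1 hd with hd | h
              · rcases hp.dvd_mul.1 hd with h | h
                · have := e 2 (by norm_num) (hp.dvd_of_dvd_pow h); omega
                · have := e 3 (by norm_num) (hp.dvd_of_dvd_pow h); omega
              · have := e 5 (by norm_num) (hp.dvd_of_dvd_pow h); omega
            · have := e 7 (by norm_num) h; omega
          · have := e 11 (by norm_num) h; omega
        · have := e 31 (by norm_num) h; omega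
      · have := e 37 (by norm_num) h; omega
    · have := e 67 (by norm_num) h; omega
  rcases h with rfl | rfl | rfl | rfl | rfl | rfl | rfl | rfl
  · exact (gen2 B x hx).mono (by norm_num)
  · exact (gen3 B x hx).mono (by norm_num)
  · exact (gen5 B x hx).mono (by norm_num)
  · exact (gen7 B x hx).mono (by norm_num)
  · exact (gen11 B x hx).mono (by norm_num)
  · exact (gen31 B x hx).mono (by norm_num)
  · exact (gen37 B x hx).mono (by norm_num)
  · exact (gen67 B x hx).mono (by norm_num)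

theorem center_bot : center Spor.Ly = ⊥ := by
  have hs : IsSimpleGroup Spor.Ly := Cfsg.Agent.Ly.Setup.isSimple_ly
  rcases (inferInstance : (center Spor.Ly).Normal).eq_bot_or_eq_top with h | h
  · exact h
  · exfalso
    apply hna
    intro a b
    have h1 : b ∈ center Spor.Ly := by rw [h]; exact mem_top b
    exact mem_center_iff.1 h1 a

theorem gen11_ly (B : Base) : Gen11 Spor.Ly := by
  refine gen11_of_inner center_bot (fun p hp => genI B hp) fun x => ?_
  have h : (MulAut.conj : Spor.Ly →* MulAut Spor.Ly).range = ⊤ := Subgroup.index_eq_one.1 S2076.result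
  rw [h]
  exact mem_top x

/-- **Row `Ly` of S4327.** -/
theorem gen_Ly {K : Type u} [Group K] (B : Base) (h : Spor.IsoLy K) : Gen11 K := (gen11_ly B).congr h.some.symm

end Cfsg.Agent.H4.Gen.Ly
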