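import Cfsg.Agent.H940.EngData
import Cfsg.Agent.H256.Sep.IsoLoc
import Cfsg.Agent.H256.Sep.LyThirtyOne
import Cfsg.Agent.H147.Gen.Eng
import Cfsg.Agent.H867.Gen.Baer
import Cfsg.Agent.R10.Close

/-!
# S4327, the Lyons group: local data at 67, 37, 31 and the classes of order 2, 7, 11, 31, 37, 67 (helper4)

* `ctx B` : the context of the order engine (a light version of `H256.Sep.RowLy.ctx`, same data for 67 and 37);
* `gen67`, `gen37`, `gen2`, `gen11` : the engine primes and the elements acting on a group of order 67;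
* `gen7`, `gen31` : two explicit conjugates in `G₂(5)` whose product has order 31, 7; the only proper subgroups of order
  divisible by 217 are those of order `|G₂(5)|`.
-/

set_option autoImplicit false
set_option maxRecDepth 100000

namespace Cfsg.Agent.H4.Gen.LyLoc

open Subgroup Cfsg.Agent.OrdDiv Cfsg.Agent.H940 Cfsg.Agent.H940.Eng Cfsg.Agent.H940.Eng.D
open Cfsg.Agent.H940.MaxCls Cfsg.Agent.H256.Sep Cfsg.Agent.H147.Gen

abbrev G : Type := Cfsg.Spor.Ly

theorem simple : IsSimpleGroup G := Cfsg.Agent.Ly.Setup.isSimple_ly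
theorem card : Nat.card G = n_ly := Cfsg.Agent.Ly.Setup.card_ly
theorem fin : Finite G := Cfsg.Agent.Ly.Setup.finite_ly

/-! ### local data -/

def es67 : List (ℕ × List (ℕ × ℕ)) := [(2, [(2, 4), (3, 3), (5, 5), (7, 7), (11, 11), (31, 31), (37, 37)]), (3, [(2, 2), (3, 9), (5, 5), (7, 7), (11, 11), (31, 31), (37, 37)]), (6, [(2, 4), (3, 9), (5, 5), (7, 7), (11, 11), (31, 31), (37, 37)]), (11, [(2, 2), (3, 3), (5, 5), (7, 7), (31, 31), (37, 37)]), (22, [(2, 4), (3, 3), (5, 5), (7, 7), (31, 31), (37, 37)]), (33, [(2, 2), (3, 9), (5, 5), (7, 7), (31, 31), (37, 37)]), (66, [(2, 4), (3, 9), (5, 5), (7, 7), (31, 31), (37, 37)])]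
def es37 : List (ℕ × List (ℕ × ℕ)) := [(2, [(2, 4), (3, 3), (5, 5), (7, 7), (11, 11), (31, 31), (67, 67)]), (3, [(2, 2), (3, 9), (5, 5), (7, 7), (11, 11), (31, 31), (67, 67)]), (4, [(2, 8), (3, 3), (5, 5), (7, 7), (11, 11), (31, 31), (67, 67)]), (6, [(2, 4), (3, 9), (5, 5), (7, 7), (11, 11), (31, 31), (67, 67)]), (9, [(2, 2), (3, 27), (5, 5), (7, 7), (11, 11), (31, 31), (67, 67)]), (12, [(2, 8), (3, 9), (5, 5), (7, 7), (11, 11), (31, 31), (67, 67)]), (18, [(2, 4), (3, 27), (5, 5), (7, 7), (11, 11), (31, 31), (67, 67)]), (36, [(2, 8), (3, 27), (5, 5), (7, 7), (11, 11), (31, 31), (67, 67)])]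
theorem iso67 : isoB l_ly n_ly o_ly 67 = true := by decide +kernel
theorem iso37 : isoB l_ly n_ly o_ly 37 = true := by decide +kernel
theorem okE67 : okE 67 es67 = true := by decide +kernel
theorem okE37 : okE 37 es37 = true := by decide +kernel
theorem cn67 : cnI n_ly 67 l_ly es67 (fun c m => Nat.beq c 67 && Nat.beq m 1474) = true := by decide +kernel
theorem cn37 : cnI n_ly 37 l_ly es37 (fun c m => Nat.beq (Nat.mod 111 c) 0 && Nat.beq m 666) = true := by decide +kernel

/-- the context without local data -/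
theorem ctx0 (B : Base) : Ctx G l_ly n_ly o_ly [] where
  fin := fin
  simple := simple
  card := card
  val := v_ly
  nodup := nd_ly
  ords := ords_ly B
  loc := fun _ h => absurd h List.not_mem_nil

theorem hna : ¬ ∀ a b : G, a * b = b * a := by
  have := fin
  have := simple
  exact not_comm' card (p := 2) (q := 3) (by decide +kernel) (by decide +kernel) (by decide +kernel) (by decide) (by decide +kernel)

theorem data67 (B : Base) {R : Subgroup G} (hR : Nat.card R = 67) :
    Nat.card (centralizer (R : Set G)) = 67 ∧ Nat.card (normalizer (R : Set G)) = 1474 := by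
  have h := cnI_sound (ctx0 B) hna (by decide +kernel) (by decide +kernel) iso67 okE67 cn67 hR
  rw [Bool.and_eq_true, Nat.beq_eq, Nat.beq_eq] at h
  exact h

theorem data37 (B : Base) {R : Subgroup G} (hR : Nat.card R = 37) :
    Nat.card (centralizer (R : Set G)) ∣ 111 ∧ Nat.card (normalizer (R : Set G)) = 666 := by
  have h := cnI_sound (ctx0 B) hna (by decide +kernel) (by decide +kernel) iso37 okE37 cn37 hR
  rw [Bool.and_eq_true, Nat.beq_eq, Nat.beq_eq] at h
  exact ⟨Nat.dvd_of_mod_eq_zero h.1, h.2⟩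

/-- the centralizer of an involution -/
theorem card_inv {t : G} (ht : orderOf t = 2) : Nat.card (centralizer ({t} : Set G)) = 39916800 := by
  obtain ⟨g, hg⟩ := Cfsg.Agent.R10.Close.one_class ht
  rw [← Cfsg.Agent.R10.Close.cover_τ.1]
  exact (Nat.card_congr (Cfsg.Agent.SporRec.LyType.conjCentEquiv g hg).toEquiv).symm

theorem data31 {R : Subgroup G} (hR : Nat.card R = 31) :
    Nat.card (centralizer (R : Set G)) = 31 ∧ Nat.card (normalizer (R : Set G)) = 186 := by
  have := fin
  have := simple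
  have hR0 : Nat.card (zpowers LyThirtyOne.X : Subgroup G) = 31 := by rw [Nat.card_zpowers, LyThirtyOne.order_X]
  refine cn_exact hna card (fC := [(31, 1)]) (by decide +kernel) (by decide +kernel) (by decide +kernel) hR0 ?_
    (by decide +kernel) hR
  have h1 : Nat.card (centralizer ((zpowers LyThirtyOne.X : Subgroup G) : Set G)) ∣ n_ly := by
    rw [← card]
    exact card_subgroup_dvd_card _
  refine (dvd_filter v_ly h1 [2, 3, 5, 7, 11, 37, 67] ?_).trans (by decide +kernel)
  intro p hp
  by_cases hp2 : p = 2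
  · rw [hp2]
    intro hd
    have := Fact.mk Nat.prime_two
    obtain ⟨y, hy⟩ := exists_prime_orderOf_dvd_card' 2 hd
    have hy2 : orderOf (y : G) = 2 := by rw [Subgroup.orderOf_coe, hy]
    have hXy : LyThirtyOne.X ∈ centralizer ({(y : G)} : Set G) :=
      mem_centralizer_singleton_iff.2 ((mem_centralizer_iff.1 y.2) _ (mem_zpowers _))
    have h2 := dvd_card_of_mem hXy
    rw [LyThirtyOne.order_X, card_inv hy2] at h2
    exact absurd h2 (by norm_num)
  · simp only [List.mem_cons, List.not_mem_nil, or_false] at hp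
    refine LyThirtyOne.not_dvd_cent ?_ hp2 ?_
    · rcases hp with rfl | rfl | rfl | rfl | rfl | rfl | rfl <;> norm_num
    · rcases hp with rfl | rfl | rfl | rfl | rfl | rfl | rfl <;> norm_num

/-- the local data -/
def loc : List LD := [⟨67, 67, [(2, 1), (11, 1), (67, 1)]⟩, ⟨37, 111, [(2, 1), (3, 2), (37, 1)]⟩, ⟨31, 31, [(2, 1), (3, 1), (31, 1)]⟩]

theorem ctx (B : Base) : Ctx G l_ly n_ly o_ly loc where
  fin := fin
  simple := simple
  card := card
  val := v_ly
  nodup := nd_ly
  ords := ords_ly B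
  loc := by
    intro ld hld
    simp only [loc, List.mem_cons, List.not_mem_nil, or_false] at hld
    rcases hld with rfl | rfl | rfl
    · refine loc_of_eq card (by decide +kernel) (by decide +kernel) (by decide +kernel) fun R hR => ?_
      rw [(data67 B hR).1, (data67 B hR).2]
      decide +kernel
    · refine loc_of_eq card (by decide +kernel) (by decide +kernel) (by decide +kernel) fun R hR => ⟨(data37 B hR).1, ?_⟩
      rw [(data37 B hR).2]
      decide +kernel
    · refine loc_of_eq card (by decide +kernel) (by decide +kernel) (by decide +kernel) fun R hR => ?_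
      rw [(data31 hR).1, (data31 hR).2]
      decide +kernel

/-! ### lists of orders -/

def os67 : List ℕ := [67, 134, 737, 1474]
def os37 : List ℕ := [37, 74, 111, 222, 333, 666]

theorem chk67 : chkO2 l_ly n_ly 67 ⟨67, 67, [(2, 1), (11, 1), (67, 1)]⟩ os67 [] 60 loc o_ly = true := by decide +kernel
theorem chk37 : chkO2 l_ly n_ly 37 ⟨37, 111, [(2, 1), (3, 2), (37, 1)]⟩ os37 [] 60 loc o_ly = true := by decide +kernel
theorem chk217 : chkO2 l_ly n_ly 217 ⟨31, 31, [(2, 1), (3, 1), (31, 1)]⟩ [5859000000] [] 60 loc o_ly = true := by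
  decide +kernel
theorem chain67 : chainOK os67 3 = true := by decide +kernel
theorem chain37 : chainOK os37 4 = true := by decide +kernel
theorem chain217 : chainOK [5859000000] 1 = true := by decide +kernel

theorem h67 (B : Base) (K : Subgroup G) (ha : 67 ∣ Nat.card K) (hK : K ≠ ⊤) : Nat.card K ∈ os67 :=
  orders2 (ctx B) ⟨67, 67, [(2, 1), (11, 1), (67, 1)]⟩ (by simp [loc]) os67 60 chk67 K ha hK

theorem h37 (B : Base) (K : Subgroup G) (ha : 37 ∣ Nat.card K) (hK : K ≠ ⊤) : Nat.card K ∈ os37 :=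
  orders2 (ctx B) ⟨37, 111, [(2, 1), (3, 2), (37, 1)]⟩ (by simp [loc]) os37 60 chk37 K ha hK

theorem h217 (B : Base) (K : Subgroup G) (ha : 217 ∣ Nat.card K) (hK : K ≠ ⊤) : Nat.card K ∈ [5859000000] :=
  orders2 (ctx B) ⟨31, 31, [(2, 1), (3, 1), (31, 1)]⟩ (by simp [loc]) [5859000000] 60 chk217 K ha hK

/-! ### the classes -/

theorem gen67 (B : Base) : GenI G 4 67 := GenI.of_eng (ctx B) (by norm_num) os67 (h67 B) chain67

theorem gen37 (B : Base) : GenI G 5 37 := GenI.of_eng (ctx B) (by norm_num) os37 (h37 B) chain37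

/-- subgroups of prime order `l`, `l ^ 2` not dividing the order of the group -/
theorem genI_of_one {l k : ℕ} (hl : l.Prime) (h2 : ¬ l ^ 2 ∣ n_ly) {u : G} (hu : orderOf u = l) (h : CG k u) :
    GenI G k l := by
  have := fin
  intro v hv
  have : Fact l.Prime := ⟨hl⟩
  have h0 : Nat.card G ≠ 0 := Nat.card_pos.ne'
  have hf : (Nat.card G).factorization l = 1 := by
    have h3 : 1 ≤ (Nat.card G).factorization l := (hl.pow_dvd_iff_le_factorization h0).1 (by
      rw [pow_one, ← hu]; exact orderOf_dvd_natCard _)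
    have h4 : ¬ 2 ≤ (Nat.card G).factorization l := fun h => h2 (by
      rw [← card]; exact (hl.pow_dvd_iff_le_factorization h0).2 h)
    omega
  let S : Sylow l G := Sylow.ofCard (zpowers u) (by rw [Nat.card_zpowers, hu, hf, pow_one])
  let T : Sylow l G := Sylow.ofCard (zpowers v) (by rw [Nat.card_zpowers, hv, hf, pow_one])
  obtain ⟨g, hg⟩ := MulAction.exists_smul_eq G S T
  have h1 : (T : Subgroup G) = zpowers v := rfl
  have h3 : g * u * g⁻¹ ∈ zpowers v := by
    rw [← h1, ← hg]
    exact ⟨u, mem_zpowers u, rfl⟩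
  rw [← mem_powers_iff_mem_zpowers] at h3
  obtain ⟨m, hm⟩ := h3
  have h4 : CG k (v ^ m) := by
    show CG k ((fun n : ℕ => v ^ n) m)
    rw [hm]
    exact h.conj g
  exact CG.of_pow h4

/-- elements of order `l` in `N(R)`, `|R| = 67` -/
theorem exists_act (B : Base) {l : ℕ} (hl : l.Prime) (hl67 : l ≠ 67) (hd : l ∣ 1474) :
    ∃ x : G, orderOf x = l ∧ CG 5 x := by
  have := fin
  have := Fact.mk hl
  have : Fact (Nat.Prime 67) := ⟨by norm_num⟩
  obtain ⟨z, hz⟩ := exists_prime_orderOf_dvd_card' (G := G) 67 (by rw [card]; decide +kernel)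
  have hR : Nat.card (zpowers z : Subgroup G) = 67 := by rw [Nat.card_zpowers, hz]
  obtain ⟨h1, h2⟩ := data67 B hR
  obtain ⟨x, hx⟩ := exists_prime_orderOf_dvd_card' (G := normalizer ((zpowers z : Subgroup G) : Set G)) l
    (by rw [h2]; exact hd)
  have hx' : orderOf (x : G) = l := by rw [Subgroup.orderOf_coe, hx]
  refine ⟨x, hx', ?_⟩
  have hxz : (x : G) * z * (x : G)⁻¹ ∈ zpowers z := by
    have := (mem_normalizer_iff.1 x.2 z).1 (mem_zpowers z)
    exact this
  refine CG.of_inv (ctx B) (by norm_num) os67 (h67 B) chain67 hz hxz fun hne => ?_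
  have hc : (x : G) ∈ centralizer ((zpowers z : Subgroup G) : Set G) := by
    rw [mem_centralizer_iff]
    rintro _ ⟨k, rfl⟩
    have h3 : Commute (x : G) z := by
      show (x : G) * z = z * x
      calc (x : G) * z = (x : G) * z * (x : G)⁻¹ * x := by group
        _ = z * x := by rw [hne]
    exact (h3.zpow_right k).eq.symm
  have h3 := dvd_card_of_mem hc
  rw [h1, hx'] at h3
  exact hl67 ((Nat.prime_dvd_prime_iff_eq hl (by norm_num)).1 h3)

/-- **involutions** -/
theorem gen2 (B : Base) : GenI G 5 2 := by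
  obtain ⟨x, hx, h⟩ := exists_act B Nat.prime_two (by norm_num) (by norm_num)
  intro g hg
  obtain ⟨a, ha⟩ := Cfsg.Agent.R10.Close.one_class hx
  obtain ⟨b, hb⟩ := Cfsg.Agent.R10.Close.one_class hg
  rw [← hb]
  rw [← ha] at h
  exact (CG.of_conj a h).conj b

/-- **elements of order eleven** -/
theorem gen11 (B : Base) : GenI G 5 11 := by
  obtain ⟨x, hx, h⟩ := exists_act B (l := 11) (by norm_num) (by norm_num) (by norm_num)
  exact genI_of_one (by norm_num) (by decide +kernel) hx h

/-! ### orders 7 and 31: words in `G₂(5)` -/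

open Cfsg.Agent.Ly.Mat7 Cfsg.Agent.Ly.Upper Cfsg.Agent.Ly.Setup LyThirtyOne

theorem order_word {w : List ℕ} {p : ℕ} (hp : p.Prime) (h1 : eqW (pw w p) [] = true) (h2 : eqW w [] = false) :
    orderOf (psi (ev Data.hgen w)) = p := by
  have := Fact.mk hp
  rw [orderOf_injective psi psi_injective]
  apply orderOf_eq_prime
  · apply Subtype.ext
    rw [SubmonoidClass.coe_pow, Data.coe_ev, ← ev_pw, word_eq h1]
    rfl
  · intro h
    have h3 : ev gen w = 1 := by rw [← Data.coe_ev, h]; rfl
    have h4 := (evalK_spec w oneN_ok).2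
    rw [h3, toM_oneN, Units.val_one, Matrix.one_mul] at h4
    have h5 : evalK w oneN = oneN := toM_inj (evalK_spec w oneN_ok).1 oneN_ok (h4.trans toM_oneN.symm)
    have h6 : eqW w [] = true := by
      unfold eqW
      rw [h5]
      rw [Nat.beq_eq]
      rfl
    rw [h6] at h2
    exact absurd h2 (by decide)

/-- a word `w` of order `p` and a conjugate with a product of order `q`, `p q = 217` -/
theorem cg_word (B : Base) {w v : List ℕ} {p q : ℕ} (hp : p.Prime) (hq : q.Prime) (hpq : p * q = 217)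
    (h1 : eqW (pw w p) [] = true) (h2 : eqW w [] = false)
    (h3 : eqW (pw (w ++ (v ++ (w ++ invW v))) q) [] = true) (h4 : eqW (w ++ (v ++ (w ++ invW v))) [] = false) :
    orderOf (psi (ev Data.hgen w)) = p ∧ CG 3 (psi (ev Data.hgen w)) := by
  have := fin
  have ho := order_word hp h1 h2
  refine ⟨ho, ?_⟩
  have hx : (psi (ev Data.hgen w) : G) ≠ 1 := by
    intro h
    rw [h, orderOf_one] at ho
    exact hp.one_lt.ne ho
  refine CG.of_eng (ctx B) [5859000000] (h217 B) chain217 hx (k := 2) ![1, psi (ev Data.hgen v)] ?_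
  rw [Cfsg.Agent.H867.Gen.Baer.pair_eq]
  set x : G := psi (ev Data.hgen w)
  set g : G := psi (ev Data.hgen v)
  have m1 : x ∈ closure ({x, g * x * g⁻¹} : Set G) := subset_closure (by simp)
  have m2 : g * x * g⁻¹ ∈ closure ({x, g * x * g⁻¹} : Set G) := subset_closure (by simp)
  have e : psi (ev Data.hgen (w ++ (v ++ (w ++ invW v)))) = x * (g * x * g⁻¹) := by
    rw [ev_append, ev_append, ev_append, ev_invW, map_mul, map_mul, map_mul, map_inv, mul_assoc g x]
  have d1 := dvd_card_of_mem m1
  have d2 := dvd_card_of_mem (mul_mem m1 m2)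
  rw [← e, order_word hq h3 h4] at d2
  rw [show orderOf x = p from ho] at d1
  have hc : Nat.Coprime p q := by
    rw [Nat.coprime_primes hp hq]
    rintro rfl
    have : p < 15 := by
      by_contra h
      have := Nat.mul_le_mul (not_lt.1 h) (not_lt.1 h)
      omega
    interval_cases p <;> omega
  rw [← hpq]
  exact hc.mul_dvd_of_dvd_of_dvd d1 d2

def w7 : List ℕ := [1, 1, 2, 3]

theorem chk7a : eqW (pw w7 7) [] = true := by decide +kernel
theorem chk7b : eqW w7 [] = false := by decide +kernel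
theorem chk7c : eqW (pw (w7 ++ ([0, 1] ++ (w7 ++ invW [0, 1]))) 31) [] = true := by decide +kernel
theorem chk7d : eqW (w7 ++ ([0, 1] ++ (w7 ++ invW [0, 1]))) [] = false := by decide +kernel

/-- **elements of order seven** -/
theorem gen7 (B : Base) : GenI G 3 7 := by
  obtain ⟨h1, h2⟩ := cg_word B (p := 7) (q := 31) (by norm_num) (by norm_num) (by norm_num) chk7a chk7b chk7c chk7d
  exact genI_of_one (by norm_num) (by decide +kernel) h1 h2

theorem chk31c : eqW (pw (w31 ++ ([1] ++ (w31 ++ invW [1]))) 7) [] = true := by decide +kernel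
theorem chk31d : eqW (w31 ++ ([1] ++ (w31 ++ invW [1]))) [] = false := by decide +kernel

/-- **elements of order 31** -/
theorem gen31 (B : Base) : GenI G 3 31 := by
  obtain ⟨h1, h2⟩ := cg_word B (p := 31) (q := 7) (by norm_num) (by norm_num) (by norm_num) chk31 chk1 chk31c chk31d
  exact genI_of_one (by norm_num) (by decide +kernel) h1 h2

end Cfsg.Agent.H4.Gen.LyLoc
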